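import Groth.Agent.Lib.RingDesc.Functorial

/-!
# Matrices of descent data on projective modules
-/

set_option autoImplicit false
set_option backward.isDefEq.respectTransparency false

universe u

namespace GrothLib.WittDesc.Bridge

open scoped ChangeOfRings
open TensorProduct CategoryTheory Opposite GrothLib.RingDesc GrothLib.RingDesc.Functorial

variable {C : Type*} [Category C] (G : Cᵒᵖ ⥤ CommRingCat.{u}) {X X₀ : C} (f : X ⟶ X₀)

/-- Descent data along one morphism for modules over the values of a ring functor. -/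
abbrev DDG := (G.toPseudofunctor.comp CommRingCat.moduleCatExtendScalarsPseudofunctor.{u}).DescentData
  (fun _ : PUnit.{u + 1} => f)

variable {G f} (D : DDG G f)

/-- The module of a descent datum. -/
abbrev obG : ModuleCat.{u} (G.obj (op X)) := D.obj PUnit.unit

variable {m : ℕ} (π : (Fin m → G.obj (op X)) →ₗ[G.obj (op X)] obG D)
  (i : obG D →ₗ[G.obj (op X)] Fin m → G.obj (op X))

/-- A generator of the pulled back module. -/
noncomputable def gen {Y : C} (a : Y ⟶ X) (j : Fin m) : E (G.map a.op).op (obG D) :=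
  one (G.map a.op).op (obG D) (π (Pi.single j 1))

/-- A coordinate of the pulled back module. -/
noncomputable def coord {Y : C} (a : Y ⟶ X) (j : Fin m) :
    E (G.map a.op).op (obG D) →ₗ[G.obj (op Y)] G.obj (op Y) :=
  func (G.map a.op).op (obG D) ((LinearMap.proj j).comp i)

/-- The gluing map. -/
noncomputable def φD {Y : C} (a b : Y ⟶ X) (hab : a ≫ f = b ≫ f) :
    E (G.map a.op).op (obG D) →ₗ[G.obj (op Y)] E (G.map b.op).op (obG D) :=
  (D.hom (i₁ := PUnit.unit) (i₂ := PUnit.unit) (a ≫ f) a b rfl hab.symm).hom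

/-- The idempotent matrix. -/
def idem : Matrix (Fin m) (Fin m) (G.obj (op X)) := Matrix.of fun j l => i (π (Pi.single l 1)) j

/-- The matrix of the gluing map. -/
noncomputable def mat {Y : C} (a b : Y ⟶ X) (hab : a ≫ f = b ≫ f) : Matrix (Fin m) (Fin m) (G.obj (op Y)) :=
  Matrix.of fun j l => coord D i b j (φD D a b hab (gen D π a l))

theorem coord_gen {Y : C} (a : Y ⟶ X) (j l : Fin m) :
    coord D i a j (gen D π a l) = (G.map a.op).hom (idem D π i j l) :=
  (func_one _ _ _ _).trans rfl

theorem pi_decomp (v : Fin m → G.obj (op X)) : π v = ∑ j, v j • π (Pi.single j 1) := by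
  simp only [← map_smul, ← map_sum]
  rw [← pi_eq_sum_univ' v]

theorem idem_mulVec (w : Fin m → G.obj (op X)) : (idem D π i).mulVec w = i (π w) := by
  funext j
  conv_rhs => rw [pi_decomp D π w]
  simp only [map_sum, map_smul, Finset.sum_apply, Pi.smul_apply, smul_eq_mul, Matrix.mulVec, dotProduct]
  refine Finset.sum_congr rfl fun l _ => ?_
  exact mul_comm _ _

theorem one_pi {Y : C} (a : Y ⟶ X) (w : Fin m → G.obj (op X)) :
    one (G.map a.op).op (obG D) (π w) = ∑ j, (G.map a.op).hom (w j) • gen D π a j := by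
  rw [pi_decomp D π w]
  refine (map_sum (AddMonoidHom.mk' (one (G.map a.op).op (obG D)) (one_add _ _)) _ _).trans ?_
  exact Finset.sum_congr rfl fun j _ => one_smul' _ _ _ _

variable (hπi : π.comp i = LinearMap.id)
include hπi

theorem expand {Y : C} (a : Y ⟶ X) (y : E (G.map a.op).op (obG D)) :
    ∑ j, coord D i a j y • gen D π a j = y :=
  sum_func (G.map a.op).op (obG D) π i hπi y

theorem φD_gen {Y : C} (a b : Y ⟶ X) (hab : a ≫ f = b ≫ f) (l : Fin m) :
    φD D a b hab (gen D π a l) = ∑ j, mat D π i a b hab j l • gen D π b j :=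
  (expand D π i hπi b _).symm

theorem idem_sq : idem D π i * idem D π i = idem D π i := by
  ext j l
  rw [Matrix.mul_apply]
  have h := congrFun (idem_mulVec D π i (i (π (Pi.single l 1)))) j
  rw [show π (i (π (Pi.single l 1))) = π (Pi.single l 1) from LinearMap.congr_fun hπi _] at h
  exact h

theorem mat_right {Y : C} (a b : Y ⟶ X) (hab : a ≫ f = b ≫ f) :
    mat D π i a b hab * (idem D π i).map (G.map a.op).hom = mat D π i a b hab := by
  ext j l
  have h := congrArg (fun y => coord D i b j (φD D a b hab y)) (expand D π i hπi a (gen D π a l))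
  simp only [map_sum, map_smul, coord_gen, smul_eq_mul] at h
  rw [Matrix.mul_apply]
  exact (Finset.sum_congr rfl fun k _ => mul_comm _ _).trans h

theorem mat_left {Y : C} (a b : Y ⟶ X) (hab : a ≫ f = b ≫ f) :
    (idem D π i).map (G.map b.op).hom * mat D π i a b hab = mat D π i a b hab := by
  ext j l
  have h := congrArg (coord D i b j) (φD_gen D π i hπi a b hab l)
  simp only [map_sum, map_smul, coord_gen, smul_eq_mul] at h
  rw [Matrix.mul_apply]
  exact (Finset.sum_congr rfl fun k _ => mul_comm _ _).trans h.symm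

theorem mat_self {Y : C} (a : Y ⟶ X) :
    mat D π i a a rfl = (idem D π i).map (G.map a.op).hom := by
  ext j l
  have h : φD D a a rfl (gen D π a l) = gen D π a l :=
    congr(($(D.hom_self (i := PUnit.unit) (a ≫ f) a rfl)).hom (gen D π a l))
  show coord D i a j (φD D a a rfl (gen D π a l)) = _
  rw [h, coord_gen]
  rfl

theorem mat_comp {Y : C} (a b c : Y ⟶ X) (hab : a ≫ f = b ≫ f) (hbc : b ≫ f = c ≫ f) :
    mat D π i b c hbc * mat D π i a b hab = mat D π i a c (hab.trans hbc) := by
  have h0 := D.hom_comp (i₁ := PUnit.unit) (i₂ := PUnit.unit) (i₃ := PUnit.unit) (a ≫ f) a b c rfl hab.symm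
    (hab.trans hbc).symm
  have e : φD D b c hbc =
      (D.hom (i₁ := PUnit.unit) (i₂ := PUnit.unit) (a ≫ f) b c hab.symm (hab.trans hbc).symm).hom := by
    unfold φD
    congr 2
    exact hab.symm
  ext j l
  have h1 : φD D b c hbc (φD D a b hab (gen D π a l)) = φD D a c (hab.trans hbc) (gen D π a l) := by
    rw [e]
    exact congr(($h0).hom (gen D π a l))
  rw [φD_gen D π i hπi a b hab] at h1
  have h2 := congrArg (coord D i c j) h1
  simp only [map_sum, map_smul, smul_eq_mul] at h2
  rw [Matrix.mul_apply]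
  exact (Finset.sum_congr rfl fun k _ => mul_comm _ _).trans h2

theorem mat_pull {Y' Y : C} (g : Y' ⟶ Y) (a b : Y ⟶ X) (hab : a ≫ f = b ≫ f) (a' b' : Y' ⟶ X)
    (ha : g ≫ a = a') (hb : g ≫ b = b') (hab' : a' ≫ f = b' ≫ f) :
    mat D π i a' b' hab' = (mat D π i a b hab).map (G.map g.op).hom := by
  have h0 := D.pullHom_hom (i₁ := PUnit.unit) (i₂ := PUnit.unit) g (a ≫ f) (a' ≫ f)
    (by rw [← Category.assoc, ha]) a b rfl hab.symm a' b' ha hb
  have key : ∀ l, φD D a' b' hab' (gen D π a' l) =
      ∑ j, (G.map g.op).hom (mat D π i a b hab j l) • gen D π b' j := by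
    intro l
    show (D.hom (a' ≫ f) a' b' rfl hab'.symm).hom _ = _
    rw [← h0]
    refine comp_elt _ _ (comp_hom_one G a.op g.op a'.op (by rw [← op_comp, ha]) (obG D)
      (π (Pi.single l 1))) ?_
    refine comp_elt _ _ (map_one_elt (G.map g.op).op _ _) ?_
    show _ = _
    have e1 : (D.hom (i₁ := PUnit.unit) (i₂ := PUnit.unit) (a ≫ f) a b rfl hab.symm).hom
        (one (G.map a.op).op (obG D) (π (Pi.single l 1))) = ∑ j, mat D π i a b hab j l • gen D π b j :=
      φD_gen D π i hπi a b hab l
    refine (congrArg _ (congrArg (one (G.map g.op).op (E (G.map b.op).op (obG D))) e1)).trans ?_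
    rw [show one (G.map g.op).op (E (G.map b.op).op (obG D)) (∑ j, mat D π i a b hab j l • gen D π b j) =
        ∑ j, (G.map g.op).hom (mat D π i a b hab j l) •
          one (G.map g.op).op (E (G.map b.op).op (obG D)) (gen D π b j) from
      (map_sum (AddMonoidHom.mk' (one (G.map g.op).op (E (G.map b.op).op (obG D))) (one_add _ _)) _ _).trans
        (Finset.sum_congr rfl fun j _ => one_smul' _ _ _ _)]
    refine (map_sum _ _ _).trans (Finset.sum_congr rfl fun j _ => ?_)
    refine (map_smul _ _ _).trans (congrArg _ ?_)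
    exact comp_inv_one G b.op g.op b'.op (by rw [← op_comp, hb]) (obG D) (π (Pi.single j 1))
  ext j l
  show coord D i b' j (φD D a' b' hab' (gen D π a' l)) = _
  rw [key, map_sum]
  simp only [map_smul, coord_gen, smul_eq_mul]
  rw [Matrix.map_apply, ← congrFun (congrFun (mat_left D π i hπi a b hab) j) l, Matrix.mul_apply, map_sum]
  refine Finset.sum_congr rfl fun k _ => ?_
  rw [map_mul, Matrix.map_apply, mul_comm]
  congr 1
  rw [← hb, op_comp, G.map_comp]
  rfl

omit hπi in
theorem func_sum {Y : C} {M : ModuleCat.{u} (G.obj (op X))} (e : op X ⟶ op Y) {K : Type} [Fintype K]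
    (t : K → G.obj (op X)) (y : K → M) :
    one (G.map e).op M (∑ k, t k • y k) = ∑ k, (G.map e).hom (t k) • one (G.map e).op M (y k) :=
  (map_sum (AddMonoidHom.mk' (one (G.map e).op M) (one_add _ _)) _ _).trans
    (Finset.sum_congr rfl fun _ _ => one_smul' _ _ _ _)

/-- A descent datum with invariant generators and coordinates comes from the base. -/
theorem effective {K : Type} [Fintype K] (V : Matrix (Fin m) K (G.obj (op X)))
    (L : Matrix K (Fin m) (G.obj (op X)))
    (hV : ∀ (Y : C) (a b : Y ⟶ X) (hab : a ≫ f = b ≫ f),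
      mat D π i a b hab * V.map (G.map a.op).hom = V.map (G.map b.op).hom)
    (hVL : V * L = idem D π i) (e0 : Matrix K K (G.obj (op X₀))) (he0 : e0.map (G.map f.op).hom = L * V)
    (hinj : Function.Injective (G.map f.op).hom) :
    ∃ M : ModuleCat.{u} (G.obj (op X₀)), Module.Finite (G.obj (op X₀)) M ∧
      Module.Projective (G.obj (op X₀)) M ∧
      Nonempty (((G.toPseudofunctor.comp CommRingCat.moduleCatExtendScalarsPseudofunctor.{u}).toDescentData
        (fun _ : PUnit.{u + 1} => f)).obj M ≅ D) := by
  classical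
  have hfix : idem D π i * V = V := by
    have h := hV X (𝟙 X) (𝟙 X) rfl
    rw [mat_self D π i hπi, op_id, G.map_id] at h
    exact h
  have hidem : e0 * e0 = e0 := by
    apply Matrix.map_injective hinj
    show (e0 * e0).map (G.map f.op).hom = e0.map (G.map f.op).hom
    rw [Matrix.map_mul, he0, Matrix.mul_assoc, ← Matrix.mul_assoc V, hVL, hfix]
  let ε := Matrix.mulVecLin e0
  let M : ModuleCat.{u} (G.obj (op X₀)) := ModuleCat.of (G.obj (op X₀)) (LinearMap.range ε)
  have hεfix : ∀ x : M, e0.mulVec x.1 = x.1 := by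
    rintro ⟨_, w, rfl⟩
    show e0.mulVec (e0.mulVec w) = e0.mulVec w
    rw [Matrix.mulVec_mulVec, hidem]
  refine ⟨M, Module.Finite.range ε,
    Module.Projective.of_split (LinearMap.range ε).subtype ε.rangeRestrict
      (LinearMap.ext fun x => Subtype.ext (hεfix x)), ?_⟩
  let e₀ := (G.map f.op).op
  let cK : K → (E e₀ M →ₗ[G.obj (op X)] G.obj (op X)) := fun k =>
    func e₀ M ((LinearMap.proj k).comp (LinearMap.range ε).subtype)
  let θ : E e₀ M →ₗ[G.obj (op X)] obG D := π ∘ₗ V.mulVecLin ∘ₗ LinearMap.pi cK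
  let col : K → M := fun k => ε.rangeRestrict (Pi.single k 1)
  let ψ : obG D →ₗ[G.obj (op X)] E e₀ M :=
    (Fintype.linearCombination (G.obj (op X)) fun k => one e₀ M (col k)) ∘ₗ L.mulVecLin ∘ₗ i
  have hcK : ∀ (k : K) (x : M), cK k (one e₀ M x) = (G.map f.op).hom (x.1 k) := fun k x => func_one e₀ M _ x
  have hθ : ∀ x : M, θ (one e₀ M x) = π (V.mulVec fun k => (G.map f.op).hom (x.1 k)) := fun x =>
    congrArg π (congrArg V.mulVec (funext fun k => hcK k x))
  have hcol : ∀ k l : K, (col l).1 k = e0 k l := fun k l => by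
    show e0.mulVec (Pi.single l 1) k = _
    rw [Matrix.mulVec_single_one]
    rfl
  have hθψ : ∀ y, θ (ψ y) = y := by
    intro y
    let t := L.mulVec (i y)
    show θ (∑ k, t k • one e₀ M (col k)) = y
    simp only [map_sum, map_smul, hθ, ← map_smul π, ← map_sum π, ← Matrix.mulVec_smul, ← Matrix.mulVec_sum]
    have h1 : (∑ l, t l • fun k => (G.map f.op).hom ((col l).1 k)) = (L * V).mulVec t := by
      funext k
      simp only [Finset.sum_apply, Pi.smul_apply, smul_eq_mul, hcol, Matrix.mulVec, dotProduct, ← he0,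
        Matrix.map_apply]
      exact Finset.sum_congr rfl fun l _ => mul_comm _ _
    rw [h1, Matrix.mulVec_mulVec, Matrix.mulVec_mulVec, ← Matrix.mul_assoc, hVL, hfix, hVL, idem_mulVec,
      show π (i (π (i y))) = π (i y) from LinearMap.congr_fun hπi _]
    exact LinearMap.congr_fun hπi y
  have hψθ : ∀ z, ψ (θ z) = z := by
    intro z
    induction z using E_induction e₀ M with
    | h0 => simp
    | hadd y y' hy hy' => rw [map_add, map_add, hy, hy']
    | ht s x =>
      rw [map_smul, map_smul]
      congr 1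
      show Fintype.linearCombination _ _ (L.mulVec (i (θ (one e₀ M x)))) = one e₀ M x
      have h2 : L.mulVec (i (θ (one e₀ M x))) = fun k => (G.map f.op).hom (x.1 k) := by
        rw [hθ, ← idem_mulVec, Matrix.mulVec_mulVec, Matrix.mulVec_mulVec, Matrix.mul_assoc, hfix, ← he0]
        funext k
        conv_rhs => rw [← hεfix x]
        simp [Matrix.mulVec, dotProduct]
      rw [h2, Fintype.linearCombination_apply]
      have h3 : x = ∑ k, x.1 k • col k := by
        refine Subtype.ext (funext fun k => ?_)
        conv_lhs => rw [← hεfix x]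
        rw [show (∑ l, x.1 l • col l : M).1 = ∑ l, x.1 l • (col l).1 from by
          simp [M]]
        simp only [Matrix.mulVec, dotProduct, Finset.sum_apply, Pi.smul_apply, smul_eq_mul, hcol]
        exact Finset.sum_congr rfl fun l _ => mul_comm _ _
      conv_rhs => rw [h3]
      exact ((map_sum (AddMonoidHom.mk' (one e₀ M) (one_add _ _)) _ _).trans
        (Finset.sum_congr rfl fun _ _ => one_smul' e₀ M _ _)).symm
  let iso : E e₀ M ≅ obG D :=
    { hom := ModuleCat.ofHom θ
      inv := ModuleCat.ofHom ψ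
      hom_inv_id := ModuleCat.hom_ext (LinearMap.ext hψθ)
      inv_hom_id := ModuleCat.hom_ext (LinearMap.ext hθψ) }
  refine ⟨Pseudofunctor.DescentData.isoMk (fun _ => iso) fun Y q i₁ i₂ a b ha hb => ?_⟩
  cases i₁
  cases i₂
  subst ha
  refine ModuleCat.hom_ext (LinearMap.ext fun z => ?_)
  let wa := (G.map a.op).op
  let wb := (G.map b.op).op
  let φ₁ : E wa (E e₀ M) →ₗ[_] E wb (E e₀ M) :=
    ((((G.toPseudofunctor.comp CommRingCat.moduleCatExtendScalarsPseudofunctor.{u}).toDescentData
      (fun _ : PUnit.{u + 1} => f)).obj M).hom (i₁ := PUnit.unit) (i₂ := PUnit.unit) (a ≫ f) a b rfl hb).hom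
  show φD D a b hb.symm (((ModuleCat.extendScalars wa.unop.hom).map iso.hom).hom z) =
    ((ModuleCat.extendScalars wb.unop.hom).map iso.hom).hom (φ₁ z)
  induction z using E_induction wa (E e₀ M) with
  | h0 => simp
  | hadd y y' hy hy' => simp only [map_add, hy, hy']
  | ht t y =>
    simp only [map_smul, map_one_elt wa iso.hom]
    congr 1
    induction y using E_induction e₀ M with
    | h0 => simp only [map_zero, one_zero]
    | hadd y y' hy hy' => simp only [map_add, one_add, hy, hy']
    | ht s x =>
      have hcan : φ₁ (one wa _ (one e₀ M x)) = one wb _ (one e₀ M x) :=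
        can_fixed G f M (a ≫ f) a b rfl hb x
      simp only [map_smul]
      erw [one_smul', one_smul', map_smul, map_smul, map_smul, hcan, map_one_elt wb iso.hom]
      congr 1
      show φD D a b hb.symm (one wa _ (θ (one e₀ M x))) = one wb _ (θ (one e₀ M x))
      rw [hθ, one_pi, one_pi, map_sum]
      simp only [map_smul, φD_gen D π i hπi a b hb.symm, Finset.smul_sum, smul_smul]
      rw [Finset.sum_comm]
      simp only [← Finset.sum_smul]
      refine Finset.sum_congr rfl fun j _ => congrArg (· • _) ?_
      have hη : ∀ r, (G.map b.op).hom ((G.map f.op).hom r) = (G.map a.op).hom ((G.map f.op).hom r) := by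
        intro r
        have e := congrArg (fun k => (G.map k.op).hom r) hb
        simpa using e
      simp only [Matrix.mulVec, dotProduct, map_sum, map_mul, hη, Finset.sum_mul]
      rw [Finset.sum_comm]
      refine Finset.sum_congr rfl fun k _ => ?_
      rw [show (G.map b.op).hom (V j k) = ∑ l, mat D π i a b hb.symm j l * (G.map a.op).hom (V l k) from
        (congrFun (congrFun (hV Y a b hb.symm) j) k).symm, Finset.sum_mul]
      exact Finset.sum_congr rfl fun l _ => by ring

end GrothLib.WittDesc.Bridge
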