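import Mathlib
import Groth.Prelude.Def_WittGrp

/-!
# The last step of the truncation filtration on Witt vectors
-/

set_option autoImplicit false

universe u

namespace GrothLib.WittDesc

variable (p : ℕ) [hp : Fact p.Prime] (k : ℕ) {A B : Type u} [CommRing A] [CommRing B]

/-- The `k`-th ghost component of a Witt vector of length `k + 1`. -/
noncomputable def wkFun (x : TruncatedWittVector p (k + 1) A) : A :=
  WittVector.ghostComponent k x.out

theorem ghostComponent_eq_sum (X : WittVector p A) :
    WittVector.ghostComponent k X =
      ∑ i ∈ Finset.range (k + 1), (p : A) ^ i * X.coeff i ^ p ^ (k - i) := by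
  rw [WittVector.ghostComponent_apply, wittPolynomial_eq_sum_C_mul_X_pow]
  simp [map_sum]

theorem wkFun_truncate (X : WittVector p A) :
    wkFun p k (WittVector.truncate (k + 1) X) = WittVector.ghostComponent k X := by
  rw [wkFun, ghostComponent_eq_sum, ghostComponent_eq_sum]
  refine Finset.sum_congr rfl fun i hi => ?_
  have h : ((WittVector.truncate (k + 1) X).out).coeff i = X.coeff i :=
    (TruncatedWittVector.coeff_out _ ⟨i, Finset.mem_range.mp hi⟩).trans
      (WittVector.coeff_truncate X ⟨i, Finset.mem_range.mp hi⟩)
  rw [h]

/-- The `k`-th ghost component as a ring map on Witt vectors of length `k + 1`. -/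
noncomputable def wk : TruncatedWittVector p (k + 1) A →+* A where
  toFun := wkFun p k
  map_one' := by rw [← map_one (WittVector.truncate (p := p) (R := A) (k + 1)), wkFun_truncate, map_one]
  map_zero' := by rw [← map_zero (WittVector.truncate (p := p) (R := A) (k + 1)), wkFun_truncate, map_zero]
  map_mul' x y := by
    obtain ⟨X, rfl⟩ := WittVector.truncate_surjective p (k + 1) A x
    obtain ⟨Y, rfl⟩ := WittVector.truncate_surjective p (k + 1) A y
    rw [← map_mul, wkFun_truncate, wkFun_truncate, wkFun_truncate, map_mul]
  map_add' x y := by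
    obtain ⟨X, rfl⟩ := WittVector.truncate_surjective p (k + 1) A x
    obtain ⟨Y, rfl⟩ := WittVector.truncate_surjective p (k + 1) A y
    rw [← map_add, wkFun_truncate, wkFun_truncate, wkFun_truncate, map_add]

theorem wk_truncate (X : WittVector p A) :
    wk p k (WittVector.truncate (k + 1) X) = WittVector.ghostComponent k X :=
  wkFun_truncate p k X

theorem wk_eq_sum (x : TruncatedWittVector p (k + 1) A) :
    wk p k x = ∑ i : Fin (k + 1), (p : A) ^ (i : ℕ) * x.coeff i ^ p ^ (k - i) := by
  show WittVector.ghostComponent k x.out = _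
  rw [ghostComponent_eq_sum, Finset.sum_range]
  simp only [TruncatedWittVector.coeff_out]

theorem wk_zero_eq (x : TruncatedWittVector p 1 A) : wk p 0 x = x.coeff 0 := by
  rw [wk_eq_sum]
  simp

theorem wk_comp_truncMap (f : A →+* B) :
    (wk p k).comp (WittGrp.truncMap p (k + 1) f) = f.comp (wk p k) :=
  RingHom.ext fun x => by
    simp only [RingHom.comp_apply, wk_eq_sum, map_sum, map_mul, map_pow, map_natCast,
      WittGrp.coeff_truncMap]

theorem iterate_frobenius_coeff_zero (X : WittVector p A) :
    (WittVector.frobenius^[k] X).coeff 0 = WittVector.ghostComponent k X := by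
  have h : ∀ (m : ℕ) (Y : WittVector p A),
      WittVector.ghostComponent 0 (WittVector.frobenius^[m] Y) = WittVector.ghostComponent m Y := by
    intro m
    induction m with
    | zero => intro Y; rfl
    | succ m ih =>
      intro Y
      rw [Function.iterate_succ_apply, ih, WittVector.ghostComponent_frobenius]
  rw [← h k X, ghostComponent_eq_sum]
  simp

/-- `a ↦ V^k [a]` in Witt vectors of length `k + 1`. -/
noncomputable def jvFun (a : A) : TruncatedWittVector p (k + 1) A :=
  TruncatedWittVector.mk p fun i => if (i : ℕ) = k then a else 0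

theorem truncate_iterate_verschiebung (Y : WittVector p A) :
    WittVector.truncate (k + 1) (WittVector.verschiebung^[k] Y) = jvFun p k (Y.coeff 0) := by
  refine TruncatedWittVector.ext fun i => ?_
  rw [WittVector.coeff_truncate, jvFun, TruncatedWittVector.coeff_mk]
  split_ifs with h
  · have := WittVector.iterate_verschiebung_coeff Y k 0
    rw [h]
    simpa using this
  · exact WittVector.iterate_verschiebung_coeff_eq_zero Y (by have := i.2; omega)

/-- `a ↦ V^k [a]` as an additive map. -/
noncomputable def jv : A →+ TruncatedWittVector p (k + 1) A :=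
  AddMonoidHom.mk' (jvFun p k) fun a b => by
    obtain ⟨X, hX⟩ : ∃ X : WittVector p A, X.coeff 0 = a := ⟨WittVector.teichmuller p a, by simp⟩
    obtain ⟨Y, hY⟩ : ∃ Y : WittVector p A, Y.coeff 0 = b := ⟨WittVector.teichmuller p b, by simp⟩
    subst hX hY
    rw [← WittVector.constantCoeff_apply, ← WittVector.constantCoeff_apply, ← map_add,
      WittVector.constantCoeff_apply, WittVector.constantCoeff_apply, WittVector.constantCoeff_apply,
      ← truncate_iterate_verschiebung, ← truncate_iterate_verschiebung, ← truncate_iterate_verschiebung,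
      ← map_add, iterate_map_add]

theorem coeff_jv (a : A) (i : Fin (k + 1)) :
    (jv p k a).coeff i = if (i : ℕ) = k then a else 0 :=
  TruncatedWittVector.coeff_mk _ _

theorem jv_injective : Function.Injective (jv p k (A := A)) := fun a b h => by
  have := congrArg (TruncatedWittVector.coeff (Fin.last k)) h
  simpa [coeff_jv] using this

theorem mul_jv (x : TruncatedWittVector p (k + 1) A) (a : A) : x * jv p k a = jv p k (wk p k x * a) := by
  obtain ⟨X, rfl⟩ := WittVector.truncate_surjective p (k + 1) A x
  obtain ⟨Y, rfl⟩ : ∃ Y : WittVector p A, Y.coeff 0 = a := ⟨WittVector.teichmuller p a, by simp⟩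
  show _ * jvFun p k _ = jvFun p k _
  rw [← truncate_iterate_verschiebung, ← map_mul, mul_comm, WittVector.iterate_verschiebung_mul_left,
    truncate_iterate_verschiebung, wk_truncate, mul_comm Y, ← iterate_frobenius_coeff_zero p k X]
  congr 1
  exact map_mul (WittVector.constantCoeff (p := p) (R := A)) _ _

theorem truncMap_jv (f : A →+* B) (a : A) :
    WittGrp.truncMap p (k + 1) f (jv p k a) = jv p k (f a) := by
  refine TruncatedWittVector.ext fun i => ?_
  rw [WittGrp.coeff_truncMap, coeff_jv, coeff_jv]
  split_ifs <;> simp

theorem eq_jv_of_truncate_eq_zero (x : TruncatedWittVector p (k + 1) A)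
    (hx : TruncatedWittVector.truncate (Nat.le_add_right k 1) x = 0) :
    x = jv p k (x.coeff (Fin.last k)) := by
  refine TruncatedWittVector.ext fun i => ?_
  rw [coeff_jv]
  split_ifs with h
  · congr 1
    exact Fin.ext h
  · have hi : (i : ℕ) < k := by have := i.2; omega
    have := congrArg (TruncatedWittVector.coeff ⟨i, hi⟩) hx
    rw [TruncatedWittVector.coeff_truncate, TruncatedWittVector.coeff_zero] at this
    exact this

theorem truncate_jv (a : A) :
    TruncatedWittVector.truncate (Nat.le_add_right k 1) (jv p k a) = 0 := by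
  refine TruncatedWittVector.ext fun i => ?_
  rw [TruncatedWittVector.coeff_truncate, coeff_jv, TruncatedWittVector.coeff_zero, if_neg]
  exact (Nat.ne_of_lt (by simp))

theorem truncate_truncMap {m : ℕ} (h : k ≤ m) (f : A →+* B) :
    (TruncatedWittVector.truncate h).comp (WittGrp.truncMap p m f) =
      (WittGrp.truncMap p k f).comp (TruncatedWittVector.truncate h) :=
  RingHom.ext fun x => TruncatedWittVector.ext fun i => by
    simp [TruncatedWittVector.coeff_truncate, WittGrp.coeff_truncMap]

/-- Reduction of Witt vectors of length `k + 1` to the ring. -/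
noncomputable def res : TruncatedWittVector p (k + 1) A →+* A :=
  (wk p 0).comp (TruncatedWittVector.truncate (Nat.le_add_left 1 k))

theorem res_apply (x : TruncatedWittVector p (k + 1) A) : res p k x = x.coeff 0 := by
  rw [res, RingHom.comp_apply, wk_zero_eq, TruncatedWittVector.coeff_truncate]
  rfl

theorem res_comp_truncMap (f : A →+* B) :
    (res p k).comp (WittGrp.truncMap p (k + 1) f) = f.comp (res p k) :=
  RingHom.ext fun x => by simp only [RingHom.comp_apply, res_apply, WittGrp.coeff_truncMap]

theorem res_surjective : Function.Surjective (res p k (A := A)) := fun a =>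
  ⟨TruncatedWittVector.mk p fun _ => a, by rw [res_apply, TruncatedWittVector.coeff_mk]⟩

theorem res_truncate (x : TruncatedWittVector p (k + 2) A) :
    res p k (TruncatedWittVector.truncate (Nat.le_add_right (k + 1) 1) x) = res p (k + 1) x := by
  rw [res_apply, res_apply, TruncatedWittVector.coeff_truncate]
  rfl

/-- The kernel of the reduction is nilpotent when `p` is. -/
theorem exists_pow_ker_res_eq_bot {N : ℕ} (hN : (p : A) ^ N = 0) :
    ∃ M, (RingHom.ker (res p k (A := A))) ^ M = ⊥ := by
  induction k with
  | zero =>
    refine ⟨1, ?_⟩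
    rw [pow_one, eq_bot_iff]
    intro x hx
    rw [RingHom.mem_ker, res_apply] at hx
    exact (Submodule.mem_bot _).mpr (TruncatedWittVector.ext fun i => by
      rw [TruncatedWittVector.coeff_zero, Fin.fin_one_eq_zero i, hx])
  | succ k ih =>
    obtain ⟨M, hM⟩ := ih
    refine ⟨N + M, ?_⟩
    let t := TruncatedWittVector.truncate (p := p) (R := A) (Nat.le_add_right (k + 1) 1)
    let J := RingHom.ker (res p (k + 1) (A := A))
    have hJM : J ^ M ≤ RingHom.ker t := by
      intro x hx
      have h1 : Ideal.map t J ≤ RingHom.ker (res p k (A := A)) := by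
        rw [Ideal.map_le_iff_le_comap]
        intro y hy
        rw [Ideal.mem_comap, RingHom.mem_ker]
        exact (res_truncate p k y).trans hy
      have h2 := Ideal.mem_map_of_mem t hx
      rw [Ideal.map_pow] at h2
      have h3 := Ideal.pow_right_mono h1 M h2
      rw [hM, Submodule.mem_bot] at h3
      exact h3
    have hw : Ideal.map (wk p (k + 1)) J ≤ Ideal.span {(p : A)} := by
      rw [Ideal.map_le_iff_le_comap]
      intro y hy
      rw [Ideal.mem_comap, wk_eq_sum]
      refine sum_mem fun i _ => ?_
      rw [Ideal.mem_span_singleton]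
      rcases Nat.eq_zero_or_pos (i : ℕ) with h0 | h0
      · have : i = 0 := Fin.ext h0
        subst this
        rw [RingHom.mem_ker, res_apply] at hy
        rw [hy, zero_pow (pow_ne_zero _ hp.out.ne_zero), mul_zero]
        exact dvd_zero _
      · exact Dvd.dvd.mul_right (dvd_pow_self _ (Nat.ne_of_gt h0)) _
    rw [eq_bot_iff, pow_add]
    refine Ideal.mul_le.mpr fun x hx y hy => ?_
    have hy' : y = jv p (k + 1) (y.coeff (Fin.last (k + 1))) :=
      eq_jv_of_truncate_eq_zero p (k + 1) y (RingHom.mem_ker.mp (hJM hy))
    have hx' : wk p (k + 1) x = 0 := by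
      have h2 := Ideal.mem_map_of_mem (wk p (k + 1)) hx
      rw [Ideal.map_pow] at h2
      have h3 := Ideal.pow_right_mono hw N h2
      rwa [Ideal.span_singleton_pow, hN, Ideal.span_singleton_eq_bot.mpr rfl, Submodule.mem_bot] at h3
    rw [Submodule.mem_bot, hy', mul_jv, hx', zero_mul, map_zero]

end GrothLib.WittDesc
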