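import Groth.Agent.Lib.WittDesc.Residue
import Groth.Agent.Lib.WittDesc.Trunc

/-!
# Effectivity of matrix descent data over truncated Witt vectors
-/

set_option autoImplicit false

universe u

open TensorProduct

namespace GrothLib.WittDesc

variable (p : ℕ) [hp : Fact p.Prime] (k : ℕ)

/-- Apply `W_k` to a diagram. -/
noncomputable def Maps.witt {A A2 A3 : Type u} [CommRing A] [CommRing A2] [CommRing A3]
    (T : Maps A A2 A3) :
    Maps (TruncatedWittVector p k A) (TruncatedWittVector p k A2) (TruncatedWittVector p k A3) where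
  a0 := WittGrp.truncMap p k T.a0
  a1 := WittGrp.truncMap p k T.a1
  μ := WittGrp.truncMap p k T.μ
  τ := WittGrp.truncMap p k T.τ
  q12 := WittGrp.truncMap p k T.q12
  q13 := WittGrp.truncMap p k T.q13
  q23 := WittGrp.truncMap p k T.q23
  σ := WittGrp.truncMap p k T.σ
  μ_a0 := by rw [← WittGrp.truncMap_comp, T.μ_a0, WittGrp.truncMap_id]
  μ_a1 := by rw [← WittGrp.truncMap_comp, T.μ_a1, WittGrp.truncMap_id]
  τ_a0 := by rw [← WittGrp.truncMap_comp, T.τ_a0]
  τ_a1 := by rw [← WittGrp.truncMap_comp, T.τ_a1]
  τ_τ := by rw [← WittGrp.truncMap_comp, T.τ_τ, WittGrp.truncMap_id]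
  σ_q12 := by rw [← WittGrp.truncMap_comp, T.σ_q12, WittGrp.truncMap_id]
  σ_q23 := by rw [← WittGrp.truncMap_comp, T.σ_q23]
  σ_q13 := by rw [← WittGrp.truncMap_comp, ← WittGrp.truncMap_comp, T.σ_q13]
  q12_a0 := by rw [← WittGrp.truncMap_comp, ← WittGrp.truncMap_comp, T.q12_a0]
  q12_a1 := by rw [← WittGrp.truncMap_comp, ← WittGrp.truncMap_comp, T.q12_a1]
  q13_a1 := by rw [← WittGrp.truncMap_comp, ← WittGrp.truncMap_comp, T.q13_a1]

variable {A A2 A3 : Type u} [CommRing A] [CommRing A2] [CommRing A3] {T : Maps A A2 A3}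
  {n : Type} [Fintype n]

theorem IsDD.truncate {e : Matrix n n (TruncatedWittVector p (k + 1) A)}
    {Φ : Matrix n n (TruncatedWittVector p (k + 1) A2)} (h : IsDD (T.witt p (k + 1)) e Φ) :
    IsDD (T.witt p k) (e.map (TruncatedWittVector.truncate (Nat.le_add_right k 1)))
      (Φ.map (TruncatedWittVector.truncate (Nat.le_add_right k 1))) :=
  h.map_apply' _ _ _ (TruncatedWittVector.truncate (Nat.le_add_right k 1))
    (truncate_truncMap p k _ _) (truncate_truncMap p k _ _) (truncate_truncMap p k _ _)
    (truncate_truncMap p k _ _) (truncate_truncMap p k _ _) (truncate_truncMap p k _ _)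

theorem IsDD.ghost {e : Matrix n n (TruncatedWittVector p (k + 1) A)}
    {Φ : Matrix n n (TruncatedWittVector p (k + 1) A2)} (h : IsDD (T.witt p (k + 1)) e Φ) :
    IsDD T (e.map (wk p k)) (Φ.map (wk p k)) :=
  h.map_apply' _ _ _ (wk p k) (wk_comp_truncMap p k _) (wk_comp_truncMap p k _)
    (wk_comp_truncMap p k _) (wk_comp_truncMap p k _) (wk_comp_truncMap p k _) (wk_comp_truncMap p k _)

theorem IsDD.residue {e : Matrix n n (TruncatedWittVector p (k + 1) A)}
    {Φ : Matrix n n (TruncatedWittVector p (k + 1) A2)} (h : IsDD (T.witt p (k + 1)) e Φ) :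
    IsDD T (e.map (res p k)) (Φ.map (res p k)) :=
  h.map_apply' _ _ _ (res p k) (res_comp_truncMap p k _) (res_comp_truncMap p k _)
    (res_comp_truncMap p k _) (res_comp_truncMap p k _) (res_comp_truncMap p k _) (res_comp_truncMap p k _)

theorem mul_map_jv {B : Type u} [CommRing B] {ι : Type} (M : Matrix n n (TruncatedWittVector p (k + 1) B))
    (c : Matrix n ι B) :
    M * c.map (jv p k) = (M.map (wk p k) * c).map (jv p k) := by
  ext i j
  simp only [Matrix.mul_apply, Matrix.map_apply, map_sum, mul_jv]

theorem map_jv_map {B B' : Type u} [CommRing B] [CommRing B'] {ι : Type} (c : Matrix n ι B)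
    (f : B →+* B') :
    (c.map (jv p k)).map (WittGrp.truncMap p (k + 1) f) = (c.map f).map (jv p k) := by
  ext i j
  simp [truncMap_jv]

theorem map_jv_injective {B : Type u} [CommRing B] {ι : Type} :
    Function.Injective (fun c : Matrix n ι B => c.map (jv p k)) :=
  Matrix.map_injective (jv_injective p k)

theorem pow_mem_pow {B : Type u} [CommRing B] [DecidableEq n] (I : Ideal B) (ν : Matrix n n B)
    (hν : ∀ i j, ν i j ∈ I) : ∀ (N : ℕ) (i j : n), (ν ^ N) i j ∈ I ^ N
  | 0, i, j => by simp
  | N + 1, i, j => by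
    rw [pow_succ, pow_succ, Matrix.mul_apply]
    exact sum_mem fun l _ => Ideal.mul_mem_mul (pow_mem_pow I ν hν N i l) (hν l j)

variable {R S : Type u} [CommRing R] [CommRing S] [Algebra R S] [Module.FaithfullyFlat R S]

/-- Invariant vectors lift along the truncations. -/
theorem exists_lift_step {e : Matrix n n (TruncatedWittVector p (k + 1) S)}
    {Φ : Matrix n n (TruncatedWittVector p (k + 1) (S ⊗[R] S))}
    (h : IsDD ((base R S).witt p (k + 1)) e Φ) (v : Matrix n Unit (TruncatedWittVector p k S))
    (hv : IsInv ((base R S).witt p k) (Φ.map (TruncatedWittVector.truncate (Nat.le_add_right k 1))) v) :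
    ∃ v' : Matrix n Unit (TruncatedWittVector p (k + 1) S),
      IsInv ((base R S).witt p (k + 1)) Φ v' ∧
        v'.map (TruncatedWittVector.truncate (Nat.le_add_right k 1)) = v := by
  have hfix := IsInv.fixed (h.truncate p k) hv
  have hsurj := fun a : TruncatedWittVector p k S =>
    TruncatedWittVector.truncate_surjective (p := p) (R := S) (Nat.le_add_right k 1) a
  choose l hl using hsurj
  let W' := (base R S).witt p (k + 1)
  let W0 := (base R S).witt p k
  have h : IsDD W' e Φ := h
  obtain ⟨y, hy, hey⟩ : ∃ y : Matrix n Unit (TruncatedWittVector p (k + 1) S),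
      y.map (TruncatedWittVector.truncate (Nat.le_add_right k 1)) = v ∧ e * y = y := by
    refine ⟨e * v.map l, ?_, by rw [← Matrix.mul_assoc, h.idem]⟩
    have e1 : (v.map l).map (TruncatedWittVector.truncate (Nat.le_add_right k 1)) = v := by
      ext i j
      simp [hl]
    rw [Matrix.map_mul, e1, hfix]
  let c : Matrix n Unit (TruncatedWittVector p (k + 1) (S ⊗[R] S)) := Φ * y.map W'.a0 - y.map W'.a1
  have hc0 : c.map (TruncatedWittVector.truncate (Nat.le_add_right k 1)) = 0 := by
    show (Φ * y.map W'.a0 - y.map W'.a1).map _ = 0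
    rw [Matrix.map_sub _ (map_sub _), Matrix.map_mul, map_map', map_map',
      show (TruncatedWittVector.truncate (Nat.le_add_right k 1)).comp W'.a0 =
        W0.a0.comp (TruncatedWittVector.truncate (Nat.le_add_right k 1)) from truncate_truncMap p k _ _,
      show (TruncatedWittVector.truncate (Nat.le_add_right k 1)).comp W'.a1 =
        W0.a1.comp (TruncatedWittVector.truncate (Nat.le_add_right k 1)) from truncate_truncMap p k _ _,
      ← map_map', ← map_map', hy, hv, sub_self]
  let c' : Matrix n Unit (S ⊗[R] S) := c.map (TruncatedWittVector.coeff (Fin.last k))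
  have hcc : c = c'.map (jv p k) := by
    ext i j : 1
    exact eq_jv_of_truncate_eq_zero p k _ (congrFun (congrFun hc0 i) j)
  have h1 : e.map W'.a1 * c = c := by
    show e.map W'.a1 * (Φ * y.map W'.a0 - y.map W'.a1) = _
    rw [Matrix.mul_sub, ← Matrix.mul_assoc, h.left, ← Matrix.map_mul, hey]
  have hμ : c.map W'.μ = 0 := by
    show (Φ * y.map W'.a0 - y.map W'.a1).map W'.μ = 0
    rw [Matrix.map_sub _ (map_sub _), Matrix.map_mul, map_map', map_map', W'.μ_a0, W'.μ_a1, map_id',
      h.diag, hey, sub_self]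
  have hcoc : Φ.map W'.q23 * c.map W'.q12 + c.map W'.q23 = c.map W'.q13 := by
    show Φ.map W'.q23 * (Φ * y.map W'.a0 - y.map W'.a1).map W'.q12 +
      (Φ * y.map W'.a0 - y.map W'.a1).map W'.q23 = (Φ * y.map W'.a0 - y.map W'.a1).map W'.q13
    simp only [Matrix.map_sub _ (map_sub _), Matrix.map_mul, map_map', Matrix.mul_sub,
      ← Matrix.mul_assoc, h.cocycle, W'.q12_a0, W'.q12_a1, W'.q13_a1]
    abel
  have ea : (e.map W'.a1).map (wk p k) = (e.map (wk p k)).map (base R S).a1 := by
    rw [map_map', map_map', show (wk p k).comp W'.a1 = (base R S).a1.comp (wk p k) from wk_comp_truncMap p k _]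
  have eq23 : (Φ.map W'.q23).map (wk p k) = (Φ.map (wk p k)).map (base R S).q23 := by
    rw [map_map', map_map', show (wk p k).comp W'.q23 = (base R S).q23.comp (wk p k) from wk_comp_truncMap p k _]
  have h1' : (e.map (wk p k)).map (base R S).a1 * c' = c' := by
    apply map_jv_injective p k
    show ((e.map (wk p k)).map (base R S).a1 * c').map (jv p k) = c'.map (jv p k)
    rw [← ea, ← mul_map_jv, ← hcc, h1]
  have hμ' : c'.map (base R S).μ = 0 := by
    apply map_jv_injective p k
    show (c'.map (base R S).μ).map (jv p k) = (0 : Matrix n Unit S).map (jv p k)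
    rw [← map_jv_map, ← hcc, Matrix.map_zero _ (map_zero _)]
    exact hμ
  have hcoc' : (Φ.map (wk p k)).map (base R S).q23 * c'.map (base R S).q12 + c'.map (base R S).q23 =
      c'.map (base R S).q13 := by
    apply map_jv_injective p k
    show ((Φ.map (wk p k)).map (base R S).q23 * c'.map (base R S).q12 + c'.map (base R S).q23).map (jv p k) =
      (c'.map (base R S).q13).map (jv p k)
    rw [Matrix.map_add _ (map_add _), ← eq23, ← mul_map_jv, ← map_jv_map, ← map_jv_map, ← map_jv_map, ← hcc]
    exact hcoc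
  obtain ⟨z, hz, hzc⟩ := exists_coboundary (h.ghost p k) c' h1' hμ' hcoc'
  refine ⟨y + z.map (jv p k), ?_, ?_⟩
  · show Φ * (y + z.map (jv p k)).map W'.a0 = (y + z.map (jv p k)).map W'.a1
    rw [Matrix.map_add _ (map_add _), Matrix.map_add _ (map_add _), Matrix.mul_add]
    rw [show (z.map (jv p k)).map W'.a0 = (z.map (base R S).a0).map (jv p k) from map_jv_map p k z _,
      show (z.map (jv p k)).map W'.a1 = (z.map (base R S).a1).map (jv p k) from map_jv_map p k z _,
      mul_map_jv, ← hzc, Matrix.map_add _ (map_add _), ← hcc]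
    show _ = _ + (_ + (Φ * y.map W'.a0 - y.map W'.a1))
    abel
  · rw [Matrix.map_add _ (map_add _), hy]
    ext i j : 1
    simp [truncate_jv]

/-- Invariant vectors lift from the residue ring. -/
theorem exists_lift : ∀ (k : ℕ) {e : Matrix n n (TruncatedWittVector p (k + 1) S)}
    {Φ : Matrix n n (TruncatedWittVector p (k + 1) (S ⊗[R] S))}
    (_ : IsDD ((base R S).witt p (k + 1)) e Φ) (v : Matrix n Unit S)
    (_ : IsInv (base R S) (Φ.map (res p k)) v),
    ∃ v' : Matrix n Unit (TruncatedWittVector p (k + 1) S),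
      IsInv ((base R S).witt p (k + 1)) Φ v' ∧ v'.map (res p k) = v
  | 0, e, Φ, _, v, hv => by
    refine ⟨v.map fun a => TruncatedWittVector.mk p fun _ => a, ?_, ?_⟩
    · unfold IsInv
      have inj : ∀ {B : Type u} [CommRing B], Function.Injective (res p 0 (A := B)) := by
        intro B _ a b hab
        exact TruncatedWittVector.ext fun i => by
          rw [Fin.fin_one_eq_zero i, ← res_apply, ← res_apply, hab]
      apply Matrix.map_injective inj
      simp only []
      rw [Matrix.map_mul, map_map', map_map',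
        show (res p 0).comp ((base R S).witt p 1).a0 = (base R S).a0.comp (res p 0) from res_comp_truncMap p 0 _,
        show (res p 0).comp ((base R S).witt p 1).a1 = (base R S).a1.comp (res p 0) from res_comp_truncMap p 0 _,
        ← map_map', ← map_map']
      have e1 : (v.map fun a => TruncatedWittVector.mk p fun _ => a).map (res p 0) = v := by
        ext i j
        simp [res_apply]
      rw [e1]
      exact hv
    · ext i j
      simp [res_apply]
  | k + 1, e, Φ, h, v, hv => by
    have hres : ∀ {B : Type u} [CommRing B] {a b : Type} (M : Matrix a b (TruncatedWittVector p (k + 2) B)),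
        (M.map (TruncatedWittVector.truncate (Nat.le_add_right (k + 1) 1))).map (res p k) =
          M.map (res p (k + 1)) := fun M => by
      ext i j
      simp [res_truncate]
    obtain ⟨w, hw, hwv⟩ := exists_lift k (h.truncate p (k + 1)) v (by rw [hres]; exact hv)
    obtain ⟨w', hw', hww⟩ := exists_lift_step p (k + 1) h w hw
    refine ⟨w', hw', ?_⟩
    rw [← hres, hww, hwv]

/-- Invariant matrices lift from the residue ring. -/
theorem exists_lift_matrix {e : Matrix n n (TruncatedWittVector p (k + 1) S)}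
    {Φ : Matrix n n (TruncatedWittVector p (k + 1) (S ⊗[R] S))}
    (h : IsDD ((base R S).witt p (k + 1)) e Φ) {K : Type} (V : Matrix n K S)
    (hV : IsInv (base R S) (Φ.map (res p k)) V) :
    ∃ V' : Matrix n K (TruncatedWittVector p (k + 1) S),
      IsInv ((base R S).witt p (k + 1)) Φ V' ∧ V'.map (res p k) = V := by
  choose v hv hvr using fun a : K => exists_lift p k h (Matrix.of fun i (_ : Unit) => V i a) (by
    ext i u
    exact congrFun (congrFun hV i) a)
  refine ⟨Matrix.of fun i a => v a i (), ?_, ?_⟩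
  · ext i a : 1
    exact congrFun (congrFun (hv a) i) ()
  · ext i a
    exact congrFun (congrFun (hvr a) i) ()

/-- Descent data on projective modules over truncated Witt vectors are effective. -/
theorem exists_effective {N : ℕ} (hN : (p : S) ^ N = 0)
    {e : Matrix n n (TruncatedWittVector p (k + 1) S)}
    {Φ : Matrix n n (TruncatedWittVector p (k + 1) (S ⊗[R] S))}
    (h : IsDD ((base R S).witt p (k + 1)) e Φ) :
    ∃ (K : Type) (_ : Fintype K) (V : Matrix n K (TruncatedWittVector p (k + 1) S))
      (L : Matrix K n (TruncatedWittVector p (k + 1) S)),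
      IsInv ((base R S).witt p (k + 1)) Φ V ∧ IsInvRow ((base R S).witt p (k + 1)) Φ L ∧ V * L = e := by
  classical
  let W' := (base R S).witt p (k + 1)
  have h : IsDD W' e Φ := h
  obtain ⟨K, _, V0, U0, hV0, hVU⟩ := exists_inv_span (h.residue p k)
  obtain ⟨K', _, L0, U0', hL0, hLU⟩ := exists_inv_span (h.residue p k).dual
  obtain ⟨V, hV, rfl⟩ := exists_lift_matrix p k h V0 hV0
  obtain ⟨Lt, hLt, rfl⟩ := exists_lift_matrix p k h.dual L0 (by
    rw [← Matrix.transpose_map, map_map',
      show (res p k).comp W'.τ = (base R S).τ.comp (res p k) from res_comp_truncMap p k _, ← map_map']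
    exact hL0)
  have hL : IsInvRow W' Φ Lt.transpose := isInvRow_of_dual hLt
  have hV : IsInv W' Φ V := hV
  have hL' : IsInvRow (base R S) (Φ.map (res p k)) (Lt.map (res p k)).transpose := isInvRow_of_dual hL0
  obtain ⟨C0, hC0⟩ := exists_coeff (h.residue p k) (V.map (res p k)) U0 (Lt.map (res p k)).transpose
    U0'.transpose hV0 hL' hVU (by rw [← Matrix.transpose_mul, hLU, Matrix.transpose_transpose])
  let C : Matrix K K' (TruncatedWittVector p (k + 1) S) :=
    C0.map fun r => WittGrp.truncMap p (k + 1) (algebraMap R S) (TruncatedWittVector.mk p fun _ => r)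
  have hCres : C.map (res p k) = C0.map (algebraMap R S) := by
    ext i j
    simp [C, res_apply]
  have hC : C.map W'.a0 = C.map W'.a1 := by
    ext i j : 1
    show WittGrp.truncMap p (k + 1) (base R S).a0 _ = WittGrp.truncMap p (k + 1) (base R S).a1 _
    simp only [C, Matrix.map_apply]
    refine TruncatedWittVector.ext fun l => ?_
    simp only [WittGrp.coeff_truncMap]
    exact ((il R S).commutes _).trans ((ir R S).commutes _).symm
  let X := V * C * Lt.transpose
  let ν := e - X
  have heX : e * X = X := by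
    show e * (V * C * _) = _
    rw [← Matrix.mul_assoc, ← Matrix.mul_assoc, IsInv.fixed h hV]
  have heν : e * ν = ν := by
    show e * (e - X) = _
    rw [Matrix.mul_sub, h.idem, heX]
  have hνJ : ∀ i j, ν i j ∈ RingHom.ker (res p k (A := S)) := by
    intro i j
    rw [RingHom.mem_ker]
    have h0 : ν.map (res p k) = 0 := by
      show (e - V * C * Lt.transpose).map (res p k) = 0
      rw [Matrix.map_sub _ (map_sub _), Matrix.map_mul, Matrix.map_mul, hCres, Matrix.transpose_map,
        hC0, sub_self]
    exact congrFun (congrFun h0 i) j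
  obtain ⟨M, hM⟩ := exists_pow_ker_res_eq_bot p k hN
  have hνM : ν ^ M = 0 := by
    ext i j : 1
    exact (Submodule.mem_bot _).mp (hM ▸ pow_mem_pow _ ν hνJ M i j)
  have hX1 : X.map W'.a1 * Φ = Φ * X.map W'.a0 := by
    show (V * C * Lt.transpose).map W'.a1 * Φ = Φ * (V * C * Lt.transpose).map W'.a0
    simp only [Matrix.map_mul]
    rw [Matrix.mul_assoc (_ * _) (Lt.transpose.map W'.a1) Φ, hL, ← hC, ← hV]
    simp only [Matrix.mul_assoc]
  have hν1 : ν.map W'.a1 * Φ = Φ * ν.map W'.a0 := by
    show (e - X).map W'.a1 * Φ = Φ * (e - X).map W'.a0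
    rw [Matrix.map_sub _ (map_sub _), Matrix.map_sub _ (map_sub _), Matrix.sub_mul, Matrix.mul_sub,
      h.left, h.right, hX1]
  have hpow : ∀ m, (ν ^ m).map W'.a1 * Φ = Φ * (ν ^ m).map W'.a0 := by
    intro m
    induction m with
    | zero => simp
    | succ m ih =>
      rw [pow_succ, Matrix.map_mul, Matrix.map_mul, Matrix.mul_assoc, hν1, ← Matrix.mul_assoc, ih,
        Matrix.mul_assoc]
  let Y := ∑ m ∈ Finset.range M, ν ^ m
  have hY1 : Y.map W'.a1 * Φ = Φ * Y.map W'.a0 := by
    have hm : ∀ (f : TruncatedWittVector p (k + 1) S →+* TruncatedWittVector p (k + 1) (S ⊗[R] S)),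
        Y.map f = ∑ m ∈ Finset.range M, (ν ^ m).map f := fun f => map_sum (RingHom.mapMatrix f) _ _
    rw [hm, hm, Finset.sum_mul, Finset.mul_sum]
    exact Finset.sum_congr rfl fun m _ => hpow m
  have hY : (1 - ν) * Y = 1 := by
    rw [mul_neg_geom_sum, hνM, sub_zero]
  refine ⟨K, inferInstance, V, C * Lt.transpose * Y * e, hV, ?_, ?_⟩
  · show (C * Lt.transpose * Y * e).map W'.a1 * Φ = (C * Lt.transpose * Y * e).map W'.a0
    simp only [Matrix.map_mul]
    rw [Matrix.mul_assoc _ (e.map W'.a1) Φ, h.left]
    conv_lhs => rw [← h.right]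
    simp only [Matrix.mul_assoc]
    rw [← Matrix.mul_assoc (Y.map W'.a1), hY1, Matrix.mul_assoc Φ,
      ← Matrix.mul_assoc (Lt.transpose.map W'.a1), hL, ← hC]
  · have hXY : X = e * (1 - ν) := by
      rw [Matrix.mul_sub, Matrix.mul_one, heν]
      show X = e - (e - X)
      abel
    calc V * (C * Lt.transpose * Y * e) = X * Y * e := by simp only [X, Matrix.mul_assoc]
      _ = e * ((1 - ν) * Y) * e := by rw [hXY, Matrix.mul_assoc e]
      _ = e := by rw [hY, Matrix.mul_one, h.idem]

end GrothLib.WittDesc
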