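import Mathlib

/-!
# Matrix descent data over a diagram of rings
-/

set_option autoImplicit false

universe u

namespace GrothLib.WittDesc

/-- The rings and maps occurring in descent data: `A → A2 → A3`. -/
structure Maps (A A2 A3 : Type u) [CommRing A] [CommRing A2] [CommRing A3] where
  a0 : A →+* A2
  a1 : A →+* A2
  μ : A2 →+* A
  τ : A2 →+* A2
  q12 : A2 →+* A3
  q13 : A2 →+* A3
  q23 : A2 →+* A3
  σ : A3 →+* A2
  μ_a0 : μ.comp a0 = RingHom.id A
  μ_a1 : μ.comp a1 = RingHom.id A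
  τ_a0 : τ.comp a0 = a1
  τ_a1 : τ.comp a1 = a0
  τ_τ : τ.comp τ = RingHom.id A2
  σ_q12 : σ.comp q12 = RingHom.id A2
  σ_q23 : σ.comp q23 = τ
  σ_q13 : σ.comp q13 = a0.comp μ
  q12_a0 : q12.comp a0 = q13.comp a0
  q12_a1 : q12.comp a1 = q23.comp a0
  q13_a1 : q13.comp a1 = q23.comp a1

theorem map_map' {A B C : Type*} [CommRing A] [CommRing B] [CommRing C] {n ι : Type*}
    (M : Matrix n ι A) (f : A →+* B) (g : B →+* C) : (M.map f).map g = M.map (g.comp f) := rfl

theorem map_id' {A : Type*} [CommRing A] {n ι : Type*} (M : Matrix n ι A) :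
    M.map (RingHom.id A) = M := rfl

variable {A A2 A3 : Type u} [CommRing A] [CommRing A2] [CommRing A3]

/-- A descent datum on the image of an idempotent matrix. -/
structure IsDD (T : Maps A A2 A3) {n : Type} [Fintype n] (e : Matrix n n A) (Φ : Matrix n n A2) :
    Prop where
  idem : e * e = e
  right : Φ * e.map T.a0 = Φ
  left : e.map T.a1 * Φ = Φ
  diag : Φ.map T.μ = e
  cocycle : Φ.map T.q23 * Φ.map T.q12 = Φ.map T.q13

variable {T : Maps A A2 A3} {n : Type} [Fintype n] {e : Matrix n n A} {Φ : Matrix n n A2}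

theorem IsDD.map_apply' (h : IsDD T e Φ) {B B2 B3 : Type u} [CommRing B] [CommRing B2] [CommRing B3]
    (T' : Maps B B2 B3) (θ : A →+* B) (θ2 : A2 →+* B2) (θ3 : A3 →+* B3)
    (h0 : θ2.comp T.a0 = T'.a0.comp θ) (h1 : θ2.comp T.a1 = T'.a1.comp θ)
    (hμ : θ.comp T.μ = T'.μ.comp θ2) (h12 : θ3.comp T.q12 = T'.q12.comp θ2)
    (h13 : θ3.comp T.q13 = T'.q13.comp θ2) (h23 : θ3.comp T.q23 = T'.q23.comp θ2) :
    IsDD T' (e.map θ) (Φ.map θ2) where
  idem := by rw [← Matrix.map_mul, h.idem]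
  right := by rw [map_map', ← h0, ← map_map', ← Matrix.map_mul, h.right]
  left := by rw [map_map', ← h1, ← map_map', ← Matrix.map_mul, h.left]
  diag := by rw [map_map', ← hμ, ← map_map', h.diag]
  cocycle := by
    rw [map_map', map_map', map_map', ← h23, ← h12, ← h13, ← map_map', ← map_map',
      ← Matrix.map_mul, h.cocycle, map_map']

theorem IsDD.inv_left (h : IsDD T e Φ) : Φ.map T.τ * Φ = e.map T.a0 := by
  have h1 := congrArg (fun M : Matrix n n A3 => M.map T.σ) h.cocycle
  simp only [Matrix.map_mul, map_map', T.σ_q12, T.σ_q23, T.σ_q13, map_id'] at h1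
  rw [← map_map', h.diag] at h1
  exact h1

theorem IsDD.inv_right (h : IsDD T e Φ) : Φ * Φ.map T.τ = e.map T.a1 := by
  have h1 := congrArg (fun M : Matrix n n A2 => M.map T.τ) h.inv_left
  simp only [Matrix.map_mul, map_map', T.τ_τ, T.τ_a0, map_id'] at h1
  exact h1

theorem IsDD.dual (h : IsDD T e Φ) : IsDD T e.transpose (Φ.map T.τ).transpose := by
  have hl : e.map T.a0 * Φ.map T.τ = Φ.map T.τ := by
    have h1 := congrArg (fun M : Matrix n n A2 => M.map T.τ) h.left
    simp only [Matrix.map_mul, map_map', T.τ_a1] at h1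
    exact h1
  have hr : Φ.map T.τ * e.map T.a1 = Φ.map T.τ := by
    have h1 := congrArg (fun M : Matrix n n A2 => M.map T.τ) h.right
    simp only [Matrix.map_mul, map_map', T.τ_a0] at h1
    exact h1
  refine ⟨?_, ?_, ?_, ?_, ?_⟩
  · rw [← Matrix.transpose_mul, h.idem]
  · rw [Matrix.transpose_map, ← Matrix.transpose_mul, hl]
  · rw [Matrix.transpose_map, ← Matrix.transpose_mul, hr]
  · have h1 := congrArg (fun M : Matrix n n A2 => M.map T.μ) h.inv_left
    simp only [Matrix.map_mul, map_map', T.μ_a0, map_id', h.diag] at h1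
    have h2 := congrArg (fun M : Matrix n n A2 => M.map T.μ) hr
    simp only [Matrix.map_mul, map_map', T.μ_a1, map_id'] at h2
    rw [Matrix.transpose_map, map_map', ← h2, h1]
  · simp only [Matrix.transpose_map, ← Matrix.transpose_mul]
    congr 1
    simp only [map_map']
    have mapr : ∀ (M : Matrix n n A2) (f : A2 →+* A3) (N : Matrix n n A2),
        M.map f * N.map f = (M * N).map f := fun M f N => Matrix.map_mul.symm
    have i12 : (Φ.map T.τ).map T.q12 * Φ.map T.q12 = e.map (T.q12.comp T.a0) := by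
      rw [mapr, h.inv_left, map_map']
    have j12 : Φ.map T.q12 * (Φ.map T.τ).map T.q12 = e.map (T.q12.comp T.a1) := by
      rw [mapr, h.inv_right, map_map']
    have j23 : Φ.map T.q23 * (Φ.map T.τ).map T.q23 = e.map (T.q23.comp T.a1) := by
      rw [mapr, h.inv_right, map_map']
    have i13 : (Φ.map T.τ).map T.q13 * Φ.map T.q13 = e.map (T.q12.comp T.a0) := by
      rw [mapr, h.inv_left, map_map', T.q12_a0]
    have r13 : (Φ.map T.τ).map T.q13 * e.map (T.q23.comp T.a1) = (Φ.map T.τ).map T.q13 := by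
      rw [← T.q13_a1, ← map_map', mapr, hr]
    have r23 : Φ.map T.q23 * e.map (T.q12.comp T.a1) = Φ.map T.q23 := by
      rw [T.q12_a1, ← map_map', mapr, h.right]
    have l12 : e.map (T.q12.comp T.a0) * (Φ.map T.τ).map T.q12 = (Φ.map T.τ).map T.q12 := by
      rw [← map_map', mapr, hl]
    simp only [← map_map']
    calc (Φ.map T.τ).map T.q12 * (Φ.map T.τ).map T.q23
        = (e.map (T.q12.comp T.a0) * (Φ.map T.τ).map T.q12) * (Φ.map T.τ).map T.q23 := by rw [l12]
      _ = ((Φ.map T.τ).map T.q13 * (Φ.map T.q23 * Φ.map T.q12) * (Φ.map T.τ).map T.q12) *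
            (Φ.map T.τ).map T.q23 := by rw [h.cocycle, i13]
      _ = (Φ.map T.τ).map T.q13 * ((Φ.map T.q23 * (Φ.map T.q12 * (Φ.map T.τ).map T.q12)) *
            (Φ.map T.τ).map T.q23) := by simp only [Matrix.mul_assoc]
      _ = (Φ.map T.τ).map T.q13 := by rw [j12, r23, j23, r13]

/-- Invariant columns. -/
def IsInv (T : Maps A A2 A3) (Φ : Matrix n n A2) {ι : Type} (V : Matrix n ι A) : Prop :=
  Φ * V.map T.a0 = V.map T.a1

/-- Invariant rows. -/
def IsInvRow (T : Maps A A2 A3) (Φ : Matrix n n A2) {ι : Type} (L : Matrix ι n A) : Prop :=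
  L.map T.a1 * Φ = L.map T.a0

theorem IsInv.fixed (h : IsDD T e Φ) {ι : Type} {V : Matrix n ι A} (hV : IsInv T Φ V) : e * V = V := by
  have h1 := congrArg (fun M : Matrix n ι A2 => M.map T.μ) hV
  simp only [Matrix.map_mul, map_map', T.μ_a0, T.μ_a1, map_id', h.diag] at h1
  exact h1

theorem IsInvRow.fixed (h : IsDD T e Φ) {ι : Type} {L : Matrix ι n A} (hL : IsInvRow T Φ L) :
    L * e = L := by
  have h1 := congrArg (fun M : Matrix ι n A2 => M.map T.μ) hL
  simp only [Matrix.map_mul, map_map', T.μ_a0, T.μ_a1, map_id', h.diag] at h1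
  exact h1

theorem IsInvRow.swap (h : IsDD T e Φ) {ι : Type} {L : Matrix ι n A} (hL : IsInvRow T Φ L) :
    L.map T.a0 * Φ.map T.τ = L.map T.a1 := by
  rw [← hL, Matrix.mul_assoc, h.inv_right, ← Matrix.map_mul, IsInvRow.fixed h hL]

theorem isInvRow_of_dual {ι : Type} {V : Matrix n ι A}
    (hV : IsInv T (Φ.map T.τ).transpose V) : IsInvRow T Φ V.transpose := by
  have h1 := congrArg (fun M : Matrix n ι A2 => M.transpose.map T.τ) hV
  simp only [Matrix.transpose_mul, Matrix.transpose_transpose, Matrix.map_mul, map_map',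
    T.τ_τ, map_id', Matrix.transpose_map] at h1
  simp only [← Matrix.transpose_map, T.τ_a0, T.τ_a1] at h1
  simpa [IsInvRow] using h1

end GrothLib.WittDesc
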