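import Groth.Agent.Lib.WittDesc.Maps

/-!
# Faithfully flat descent for matrix descent data over rings
-/

set_option autoImplicit false

universe u

open TensorProduct

namespace GrothLib.WittDesc

variable (R S : Type u) [CommRing R] [CommRing S] [Algebra R S]

/-- `s ⊗ t ↦ s ⊗ 1`-type maps: left inclusion. -/
noncomputable abbrev il : S →ₐ[R] S ⊗[R] S := Algebra.TensorProduct.includeLeft

/-- Right inclusion. -/
noncomputable abbrev ir : S →ₐ[R] S ⊗[R] S := Algebra.TensorProduct.includeRight

/-- `s ⊗ t ↦ s ⊗ t ⊗ 1`. -/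
noncomputable def q12' : S ⊗[R] S →ₐ[R] S ⊗[R] (S ⊗[R] S) :=
  Algebra.TensorProduct.map (AlgHom.id R S) (il R S)

/-- `s ⊗ t ↦ s ⊗ 1 ⊗ t`. -/
noncomputable def q13' : S ⊗[R] S →ₐ[R] S ⊗[R] (S ⊗[R] S) :=
  Algebra.TensorProduct.map (AlgHom.id R S) (ir R S)

/-- `w ↦ 1 ⊗ w`. -/
noncomputable def q23' : S ⊗[R] S →ₐ[R] S ⊗[R] (S ⊗[R] S) := Algebra.TensorProduct.includeRight

/-- `s ⊗ t ⊗ u ↦ s u ⊗ t`. -/
noncomputable def σ' : S ⊗[R] (S ⊗[R] S) →ₐ[R] S ⊗[R] S :=
  Algebra.TensorProduct.lift (il R S) (Algebra.TensorProduct.comm R S S).toAlgHom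
    fun _ _ => Commute.all _ _

/-- The diagram of `S ⊗ S` and `S ⊗ S ⊗ S`. -/
noncomputable def base : Maps S (S ⊗[R] S) (S ⊗[R] (S ⊗[R] S)) where
  a0 := (il R S).toRingHom
  a1 := (ir R S).toRingHom
  μ := (Algebra.TensorProduct.lmul' R (S := S)).toRingHom
  τ := (Algebra.TensorProduct.comm R S S).toAlgHom.toRingHom
  q12 := (q12' R S).toRingHom
  q13 := (q13' R S).toRingHom
  q23 := (q23' R S).toRingHom
  σ := (σ' R S).toRingHom
  μ_a0 := RingHom.ext fun s => by simp
  μ_a1 := RingHom.ext fun s => by simp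
  τ_a0 := RingHom.ext fun s => by simp
  τ_a1 := RingHom.ext fun s => by simp
  τ_τ := RingHom.ext fun x => by
    induction x using TensorProduct.induction_on with
    | zero => simp
    | tmul a b => simp
    | add x y hx hy => rw [map_add, map_add, hx, hy]
  σ_q12 := RingHom.ext fun x => by
    induction x using TensorProduct.induction_on with
    | zero => simp
    | tmul a b => simp [σ', q12']
    | add x y hx hy => rw [map_add, map_add, hx, hy]
  σ_q23 := RingHom.ext fun x => by
    induction x using TensorProduct.induction_on with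
    | zero => simp
    | tmul a b => simp [σ', q23']
    | add x y hx hy => rw [map_add, map_add, hx, hy]
  σ_q13 := RingHom.ext fun x => by
    induction x using TensorProduct.induction_on with
    | zero => simp
    | tmul a b => simp [σ', q13']
    | add x y hx hy => rw [map_add, map_add, hx, hy]
  q12_a0 := RingHom.ext fun s => by simp [q12', q13']
  q12_a1 := RingHom.ext fun s => by simp [q12', q23']
  q13_a1 := RingHom.ext fun s => by simp [q13', q23']

variable {R S}

theorem base_a0 (s : S) : (base R S).a0 s = s ⊗ₜ 1 := rfl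

theorem base_a1 (s : S) : (base R S).a1 s = 1 ⊗ₜ s := rfl

theorem base_μ (s t : S) : (base R S).μ (s ⊗ₜ t) = s * t := by simp [base]

theorem base_q12 (s t : S) : (base R S).q12 (s ⊗ₜ t) = s ⊗ₜ (t ⊗ₜ (1 : S)) := rfl

theorem base_q13 (s t : S) : (base R S).q13 (s ⊗ₜ t) = s ⊗ₜ ((1 : S) ⊗ₜ t) := rfl

theorem base_q23 (x : S ⊗[R] S) : (base R S).q23 x = (1 : S) ⊗ₜ x := rfl

variable [Module.FaithfullyFlat R S]

/-- An invariant vector in the `S`-span of invariant vectors is in their `R`-span. -/
theorem span_invariant {ι J : Type} [Fintype ι] [Fintype J] (x : J → ι → S) (c : J → S) (v : ι → S)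
    (hv : v = ∑ j, c j • x j)
    (hb : ∀ i, (base R S).a1 (v i) = ∑ j, (base R S).a0 (c j) * (base R S).a1 (x j i)) :
    ∃ r : J → R, v = ∑ j, algebraMap R S (r j) • x j := by
  classical
  let P : Submodule R (ι → S) := Submodule.span R (Set.range x)
  have key : (1 : S) ⊗ₜ[R] v = ∑ j, c j ⊗ₜ[R] x j := by
    apply (TensorProduct.piRight R R S (fun _ : ι => S)).injective
    funext i
    simp only [map_sum, Finset.sum_apply, TensorProduct.piRight_apply, TensorProduct.piRightHom_tmul]
    refine ((base_a1 (v i)).symm.trans (hb i)).trans ?_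
    simp [base_a0, base_a1]
  have h0 : (1 : S) ⊗ₜ[R] (P.mkQ v) = 0 := by
    have h1 := congrArg (P.mkQ.lTensor S) key
    simp only [map_sum, LinearMap.lTensor_tmul] at h1
    rw [h1]
    refine Finset.sum_eq_zero fun j _ => ?_
    rw [Submodule.mkQ_apply, (Submodule.Quotient.mk_eq_zero P).mpr (Submodule.subset_span ⟨j, rfl⟩), TensorProduct.tmul_zero]
  rw [Module.FaithfullyFlat.one_tmul_eq_zero_iff, Submodule.mkQ_apply, Submodule.Quotient.mk_eq_zero] at h0
  obtain ⟨r, hr⟩ := (Submodule.mem_span_range_iff_exists_fun R).mp h0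
  exact ⟨r, hr.symm.trans (Finset.sum_congr rfl fun j _ => (algebraMap_smul S (r j) (x j)).symm)⟩

variable {n : Type} [Fintype n] {e : Matrix n n S} {Φ : Matrix n n (S ⊗[R] S)}

/-- `v ↦ Φ v₀ - v₁`. -/
noncomputable def δ (Φ : Matrix n n (S ⊗[R] S)) : (n → S) →ₗ[R] (n → S ⊗[R] S) where
  toFun v := fun i => (∑ j, Φ i j * (v j ⊗ₜ (1 : S))) - (1 : S) ⊗ₜ v i
  map_add' v w := by
    funext i
    simp only [Pi.add_apply, TensorProduct.add_tmul, TensorProduct.tmul_add, mul_add,
      Finset.sum_add_distrib]
    abel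
  map_smul' r v := by
    funext i
    simp only [Pi.smul_apply, RingHom.id_apply, TensorProduct.tmul_smul, ← TensorProduct.smul_tmul',
      mul_smul_comm, smul_sub, Finset.smul_sum]

theorem δ_apply (v : n → S) (i : n) :
    δ Φ v i = (∑ j, Φ i j * (base R S).a0 (v j)) - (base R S).a1 (v i) := rfl

theorem lTensor_δ [DecidableEq n] (z : S ⊗[R] (n → S)) (i : n) :
    TensorProduct.piRight R R S (fun _ : n => S ⊗[R] S) ((δ Φ).lTensor S z) i =
      (∑ j, (base R S).q23 (Φ i j) * (base R S).q12 (TensorProduct.piRight R R S (fun _ : n => S) z j)) -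
        (base R S).q13 (TensorProduct.piRight R R S (fun _ : n => S) z i) := by
  induction z using TensorProduct.induction_on with
  | zero => simp
  | tmul s v =>
    simp only [LinearMap.lTensor_tmul, TensorProduct.piRight_apply, TensorProduct.piRightHom_tmul,
      δ_apply, TensorProduct.tmul_sub, TensorProduct.tmul_sum, base_q12, base_q13, base_q23, base_a0,
      base_a1, Algebra.TensorProduct.tmul_mul_tmul, one_mul]
  | add z w hz hw =>
    simp only [map_add, Pi.add_apply, hz, hw, mul_add, Finset.sum_add_distrib]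
    abel

/-- The fixed vectors span the image of the idempotent. -/
theorem mem_span_fixed (h : IsDD (base R S) e Φ) (v : n → S) (hv : ∀ i, ∑ j, e i j * v j = v i) :
    v ∈ Submodule.span S (LinearMap.ker (δ Φ) : Set (n → S)) := by
  classical
  let pi1 := TensorProduct.piRight R R S (fun _ : n => S)
  let z : S ⊗[R] (n → S) := pi1.symm fun i => ∑ j, Φ i j * (base R S).a0 (v j)
  have hz : ∀ i, pi1 z i = ∑ j, Φ i j * (base R S).a0 (v j) := fun i =>
    congrFun (pi1.apply_symm_apply _) i
  have hker : (δ Φ).lTensor S z = 0 := by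
    apply (TensorProduct.piRight R R S (fun _ : n => S ⊗[R] S)).injective
    funext i
    rw [lTensor_δ, map_zero, Pi.zero_apply, sub_eq_zero]
    show ∑ j, (base R S).q23 (Φ i j) * (base R S).q12 (pi1 z j) = (base R S).q13 (pi1 z i)
    simp only [hz, map_sum, map_mul, Finset.mul_sum]
    rw [Finset.sum_comm]
    refine Finset.sum_congr rfl fun k _ => ?_
    simp only [← mul_assoc, ← Finset.sum_mul]
    rw [show (base R S).q12 ((base R S).a0 (v k)) = (base R S).q13 ((base R S).a0 (v k)) from
      RingHom.congr_fun (base R S).q12_a0 (v k)]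
    congr 1
    exact congrFun (congrFun h.cocycle i) k
  obtain ⟨w, hw⟩ := (Module.Flat.lTensor_exact S (δ Φ).exact_subtype_ker_map z).mp hker
  have hmem : ∀ w : S ⊗[R] (LinearMap.ker (δ Φ)),
      (fun i => (base R S).μ (pi1 ((LinearMap.ker (δ Φ)).subtype.lTensor S w) i)) ∈
        Submodule.span S (LinearMap.ker (δ Φ) : Set (n → S)) := by
    intro w
    induction w using TensorProduct.induction_on with
    | zero =>
      simp only [map_zero, Pi.zero_apply]
      exact zero_mem _
    | tmul s p =>
      convert Submodule.smul_mem _ s (Submodule.subset_span p.2) using 1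
      funext i
      simp [pi1, base_μ]
    | add w w' hw hw' =>
      convert add_mem hw hw' using 1
      funext i
      simp
  convert hmem w using 1
  funext i
  rw [hw, hz, map_sum]
  simp only [map_mul]
  rw [← hv i]
  refine Finset.sum_congr rfl fun j _ => congrArg₂ (· * ·) (congrFun (congrFun h.diag.symm i) j) ?_
  exact (RingHom.congr_fun (base R S).μ_a0 (v j)).symm

/-- Invariant columns spanning the image of the idempotent. -/
theorem exists_inv_span (h : IsDD (base R S) e Φ) :
    ∃ (K : Type) (_ : Fintype K) (V : Matrix n K S) (U : Matrix K n S),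
      IsInv (base R S) Φ V ∧ V * U = e := by
  classical
  have hcol : ∀ l : n, ∃ (k : ℕ) (f : Fin k → S) (g : Fin k → (LinearMap.ker (δ Φ) : Set (n → S))),
      ∑ a, f a • (g a : n → S) = fun i => e i l :=
    fun l => Submodule.mem_span_set'.mp (mem_span_fixed h _ fun i => by
      rw [← Matrix.mul_apply, h.idem])
  choose k f g hfg using hcol
  refine ⟨Σ l, Fin (k l), inferInstance, Matrix.of fun i a => (g a.1 a.2 : n → S) i,
    Matrix.of fun a l => if a.1 = l then f a.1 a.2 else 0, ?_, ?_⟩
  · ext i a
    have h1 : δ Φ (g a.1 a.2 : n → S) i = 0 := congrFun (g a.1 a.2).2 i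
    rw [δ_apply, sub_eq_zero] at h1
    simpa [Matrix.mul_apply] using h1
  · ext i l
    rw [Matrix.mul_apply, Fintype.sum_sigma, ← congrFun (hfg l) i, Finset.sum_eq_single l]
    · simp [Finset.sum_apply, mul_comm]
    · intro b _ hb
      simp [hb]
    · simp

/-- A `1`-cocycle with values in a descent datum is a coboundary. -/
theorem exists_coboundary (h : IsDD (base R S) e Φ) (c : Matrix n Unit (S ⊗[R] S))
    (h1 : e.map (base R S).a1 * c = c) (hμ : c.map (base R S).μ = 0)
    (hcoc : Φ.map (base R S).q23 * c.map (base R S).q12 + c.map (base R S).q23 =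
      c.map (base R S).q13) :
    ∃ z : Matrix n Unit S, e * z = z ∧ Φ * z.map (base R S).a0 + c = z.map (base R S).a1 := by
  classical
  have h' : IsDD (base R S) (Matrix.fromBlocks e 0 0 (1 : Matrix Unit Unit S))
      (Matrix.fromBlocks Φ c 0 1) := by
    refine ⟨?_, ?_, ?_, ?_, ?_⟩
    · simp [Matrix.fromBlocks_multiply, h.idem]
    · simp [Matrix.fromBlocks_map, Matrix.fromBlocks_multiply, h.right]
    · simp [Matrix.fromBlocks_map, Matrix.fromBlocks_multiply, h.left, h1]
    · simp [Matrix.fromBlocks_map, h.diag, hμ]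
    · simp [Matrix.fromBlocks_map, Matrix.fromBlocks_multiply, h.cocycle, hcoc]
  obtain ⟨K, _, V, U, hV, hVU⟩ := exists_inv_span h'
  have hrow : ∀ k, (base R S).a0 (V (Sum.inr ()) k) = (base R S).a1 (V (Sum.inr ()) k) := fun k => by
    have h2 := congrFun (congrFun hV (Sum.inr ())) k
    simpa [Matrix.mul_apply] using h2
  have hone : ∑ k, V (Sum.inr ()) k * U k (Sum.inr ()) = 1 := by
    have h2 := congrFun (congrFun hVU (Sum.inr ())) (Sum.inr ())
    simpa [Matrix.mul_apply] using h2
  obtain ⟨r, hr⟩ := span_invariant (R := R) (fun k (_ : Unit) => V (Sum.inr ()) k)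
    (fun k => U k (Sum.inr ())) (fun _ => 1)
    (by funext i; simp only [Finset.sum_apply, Pi.smul_apply, smul_eq_mul]; rw [← hone]
        exact Finset.sum_congr rfl fun k _ => mul_comm _ _)
    (fun _ => by
      simp only [map_one, ← hrow, ← map_mul, ← map_sum]
      rw [show ∑ k, U k (Sum.inr ()) * V (Sum.inr ()) k = 1 from
        (Finset.sum_congr rfl fun k _ => mul_comm _ _).trans hone, map_one])
  let z' : Matrix (n ⊕ Unit) Unit S := V * Matrix.of fun k (_ : Unit) => algebraMap R S (r k)
  have halg : ∀ t : R, (base R S).a0 (algebraMap R S t) = (base R S).a1 (algebraMap R S t) := fun t =>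
    ((il R S).commutes t).trans ((ir R S).commutes t).symm
  have hz' : IsInv (base R S) (Matrix.fromBlocks Φ c 0 1) z' := by
    show _ * z'.map _ = z'.map _
    rw [Matrix.map_mul, Matrix.map_mul, ← Matrix.mul_assoc, hV]
    congr 1
    ext k u
    exact halg (r k)
  have hlast : z' (Sum.inr ()) () = 1 := by
    have h2 := congrFun hr ()
    simp only [Finset.sum_apply, Pi.smul_apply, smul_eq_mul] at h2
    rw [h2]
    exact Finset.sum_congr rfl fun k _ => mul_comm _ _
  have hfix := IsInv.fixed h' hz'
  refine ⟨Matrix.of fun i _ => z' (Sum.inl i) (), ?_, ?_⟩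
  · ext i u
    have h2 := congrFun (congrFun hfix (Sum.inl i)) ()
    simpa [Matrix.mul_apply] using h2
  · ext i u
    have h2 := congrFun (congrFun hz' (Sum.inl i)) ()
    simpa [Matrix.mul_apply, hlast] using h2

/-- The idempotent is a combination over `R` of products of invariant columns and rows. -/
theorem exists_coeff (h : IsDD (base R S) e Φ) {K K' : Type} [Fintype K] [Fintype K']
    (V : Matrix n K S) (U : Matrix K n S) (L : Matrix K' n S) (U' : Matrix n K' S)
    (hV : IsInv (base R S) Φ V) (hL : IsInvRow (base R S) Φ L) (hVU : V * U = e) (hU'L : U' * L = e) :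
    ∃ C : Matrix K K' R, V * C.map (algebraMap R S) * L = e := by
  classical
  have exp : ∀ {B : Type u} [CommRing B] (X : Matrix n K B) (C : Matrix K K' B) (Y : Matrix K' n B)
      (i l : n), (X * C * Y) i l = ∑ p : K × K', C p.1 p.2 * (X i p.1 * Y p.2 l) := fun X C Y i l => by
    simp only [Matrix.mul_apply, Finset.sum_mul, Fintype.sum_prod_type]
    rw [Finset.sum_comm]
    exact Finset.sum_congr rfl fun a _ => Finset.sum_congr rfl fun b _ => by ring
  have he : V * (U * U') * L = e := by
    rw [← Matrix.mul_assoc, hVU, Matrix.mul_assoc, hU'L, h.idem]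
  have he1 : V.map (base R S).a1 * (U * U').map (base R S).a0 * L.map (base R S).a1 =
      e.map (base R S).a1 := by
    rw [← hV, ← IsInvRow.swap h hL]
    simp only [Matrix.mul_assoc]
    rw [← Matrix.mul_assoc _ (L.map _), ← Matrix.map_mul, ← Matrix.mul_assoc (V.map _), ← Matrix.map_mul,
      ← Matrix.mul_assoc V, he, ← Matrix.mul_assoc, h.right, h.inv_right]
  obtain ⟨r, hr⟩ := span_invariant (R := R) (fun (p : K × K') (q : n × n) => V q.1 p.1 * L p.2 q.2)
    (fun p => (U * U') p.1 p.2) (fun q => e q.1 q.2)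
    (by
      funext q
      simp only [Finset.sum_apply, Pi.smul_apply, smul_eq_mul]
      rw [← exp, he])
    (fun q => by
      simp only [map_mul]
      have h2 := congrFun (congrFun he1 q.1) q.2
      rw [exp] at h2
      simpa using h2.symm)
  refine ⟨Matrix.of fun a b => r (a, b), ?_⟩
  ext i l
  rw [exp, show e i l = (fun q : n × n => e q.1 q.2) (i, l) from rfl, hr]
  simp [Algebra.smul_def]

end GrothLib.WittDesc
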